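import Groth.Agent.Hensel1.Normal

/-!
# Local rings of étale algebras over normal domains
-/

universe u

set_option autoImplicit false

namespace Groth.Pi1Normal

open Groth.Hensel1 IsLocalRing TensorProduct Polynomial

theorem eq_one_or_eq_zero_of_idempotent {L : Type u} [CommRing L] [IsLocalRing L] {l : L}
    (h : IsIdempotentElem l) : l = 1 ∨ l = 0 := by
  rcases IsLocalRing.isUnit_or_isUnit_one_sub_self l with hu | hu
  · exact Or.inl (hu.mul_left_cancel (by rw [h.eq, mul_one]))
  · exact Or.inr (hu.mul_right_eq_zero.mp (by rw [sub_mul, one_mul, h.eq, sub_self]))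

/-- The local rings of an étale algebra over a normal domain are normal domains. -/
theorem isNormalDomain_localization_etale {R : Type u} [CommRing R] [IsDomain R] [IsIntegrallyClosed R]
    (S : Type u) [CommRing S] [Algebra R S] [Algebra.Etale R S] (q : Ideal S) [q.IsPrime] :
    IsDomain (Localization.AtPrime q) ∧ IsIntegrallyClosed (Localization.AtPrime q) := by
  let K := FractionRing R
  let L := Localization.AtPrime q
  have : Algebra.FormallyEtale S L := Algebra.FormallyEtale.of_isLocalization q.primeCompl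
  have : Algebra.FormallyUnramified R L := Algebra.FormallyUnramified.comp R S L
  have : Algebra.EssFiniteType S L := .of_isLocalization _ q.primeCompl
  have : Algebra.EssFiniteType R L := .comp R S L
  have : Module.Flat S L := IsLocalization.flat _ q.primeCompl
  have : Module.Flat R L := Module.Flat.trans R S L
  have hbij : Function.Bijective (TensorProduct.toIntegralClosure R L K) :=
    TensorProduct.toIntegralClosure_bijective_of_tower (S := S)
      TensorProduct.toIntegralClosure_bijective_of_smooth
      (TensorProduct.toIntegralClosure_bijective_of_isLocalization q.primeCompl)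
  have hint : ∀ x : L ⊗[R] K, IsIntegral L x → ∃ l : L, l ⊗ₜ 1 = x := fun x hx => by
    obtain ⟨z, hz⟩ := hbij.2 ⟨x, hx⟩
    obtain ⟨l, hl⟩ : ∃ l : L, Algebra.TensorProduct.map (AlgHom.id L L)
        (integralClosure R K).val z = l ⊗ₜ 1 := by
      clear hz
      induction z with
      | zero => exact ⟨0, by simp⟩
      | tmul l y =>
        obtain ⟨r, hr⟩ := IsIntegrallyClosed.algebraMap_eq_of_integral y.2
        refine ⟨r • l, ?_⟩
        rw [Algebra.TensorProduct.map_tmul, AlgHom.id_apply, Subalgebra.coe_val, ← hr,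
          Algebra.algebraMap_eq_smul_one, TensorProduct.smul_tmul]
      | add z₁ z₂ h₁ h₂ =>
        obtain ⟨l₁, h₁⟩ := h₁; obtain ⟨l₂, h₂⟩ := h₂
        exact ⟨l₁ + l₂, by rw [map_add, h₁, h₂, TensorProduct.add_tmul]⟩
    refine ⟨l, ?_⟩
    rw [← hl]
    exact congr_arg Subtype.val hz
  have hinj : Function.Injective (algebraMap L (L ⊗[R] K)) :=
    Algebra.TensorProduct.includeLeft_injective (S := R) (IsFractionRing.injective R K)
  let e : K ⊗[R] L ≃+* L ⊗[R] K := (Algebra.TensorProduct.comm R K L).toRingEquiv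
  have : Module.Finite K (K ⊗[R] L) := Algebra.FormallyUnramified.finite_of_free K _
  have : IsArtinianRing (K ⊗[R] L) := isArtinian_of_tower K inferInstance
  have : IsReduced (K ⊗[R] L) := Algebra.FormallyUnramified.isReduced_of_field K _
  have : Nontrivial (L ⊗[R] K) := hinj.nontrivial
  have : IsArtinianRing (L ⊗[R] K) := e.surjective.isArtinianRing
  have : IsReduced (L ⊗[R] K) := isReduced_of_injective e.symm e.symm.injective
  have hfield : ∀ t : L ⊗[R] K, t ≠ 0 → IsUnit t := isUnit_of_artinian_of_idem fun f hf => by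
    obtain ⟨l, hl⟩ := hint f ⟨X ^ 2 - X,
      monic_X_pow_sub (n := 2) (degree_X_le.trans_lt (by norm_num)),
      by simp [pow_two, hf.eq]⟩
    have hli : IsIdempotentElem l := hinj (by
      rw [map_mul, show algebraMap L (L ⊗[R] K) l = f from hl]; exact hf)
    rcases eq_one_or_eq_zero_of_idempotent hli with h | h
    · exact Or.inr (by rw [← hl, h]; rfl)
    · exact Or.inl (by rw [← hl, h, TensorProduct.zero_tmul])
  have hdom : IsDomain L := by
    have : NoZeroDivisors (L ⊗[R] K) := ⟨fun {a b} hab => or_iff_not_imp_left.mpr fun ha =>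
      (hfield a ha).mul_right_eq_zero.mp hab⟩
    have : IsDomain (L ⊗[R] K) := NoZeroDivisors.to_isDomain _
    exact hinj.isDomain (algebraMap L (L ⊗[R] K))
  refine ⟨hdom, isIntegrallyClosed_of_dividesOfIntegral fun a b p hb hp h => ?_⟩
  have hbu : IsUnit (algebraMap L (L ⊗[R] K) b) := hfield _ ((map_ne_zero_iff _ hinj).mpr hb)
  obtain ⟨l, hl⟩ := hint (algebraMap L (L ⊗[R] K) a * ↑hbu.unit⁻¹) ⟨p, hp, by
    have h1 : eval₂ (algebraMap L (L ⊗[R] K)) (algebraMap L (L ⊗[R] K) b *
        (algebraMap L (L ⊗[R] K) a * ↑hbu.unit⁻¹)) (p.scaleRoots b) = 0 := by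
      rw [mul_left_comm, IsUnit.mul_val_inv, mul_one, eval₂_at_apply, h, map_zero]
    rw [scaleRoots_eval₂_mul] at h1
    exact (hbu.pow _).mul_right_eq_zero.mp h1⟩
  refine ⟨l, hinj ?_⟩
  rw [map_mul, show algebraMap L (L ⊗[R] K) l = l ⊗ₜ 1 from rfl, hl, mul_left_comm,
    IsUnit.mul_val_inv, mul_one]

end Groth.Pi1Normal
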