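import Groth.Agent.Pi1Normal.EtaleAlg
import Groth.Agent.Variety2.Normal
import Groth.Agent.Pi1FEt.FullClopen
import Groth.Agent.PropsBasic.Generization
import Groth.Prelude.Def_Pi1
import Mathlib.AlgebraicGeometry.Morphisms.QuasiFinite
import Mathlib.AlgebraicGeometry.Morphisms.Preimmersion

/-!
# Finite étale covers of normal integral schemes
-/

universe u

set_option autoImplicit false
set_option backward.isDefEq.respectTransparency false

open CategoryTheory CategoryTheory.Limits AlgebraicGeometry TopologicalSpace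

namespace Groth.Pi1Normal

variable {X Y : Scheme.{u}}

theorem isNormalScheme_of_etale [IsIntegral X] (hX : Pi1.IsNormalScheme X) (f : Y ⟶ X) [Etale f] :
    Pi1.IsNormalScheme Y := by
  intro y
  obtain ⟨_, ⟨V, hV, rfl⟩, hyV, -⟩ :=
    X.isBasis_affineOpens.exists_subset_of_mem_open (Set.mem_univ (f y)) isOpen_univ
  obtain ⟨_, ⟨W, hW, rfl⟩, hyW, hWV⟩ :=
    Y.isBasis_affineOpens.exists_subset_of_mem_open (show y ∈ f ⁻¹ᵁ V from hyV) (f ⁻¹ᵁ V).isOpen
  haveI : Nonempty (Scheme.Opens.toScheme V) := ⟨⟨f y, hyV⟩⟩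
  haveI : IsIntegrallyClosed Γ(X, V) := Groth.Variety2.isIntegrallyClosed_Γ (fun x => (hX x).2) V
  letI : Algebra Γ(X, V) Γ(Y, W) := (f.appLE V W hWV).hom.toAlgebra
  haveI : Algebra.Etale Γ(X, V) Γ(Y, W) :=
    HasRingHomProperty.appLE (P := @Etale) f inferInstance ⟨V, hV⟩ ⟨W, hW⟩ hWV
  let p := hW.primeIdealOf ⟨y, hyW⟩
  obtain ⟨h1, h2⟩ := isNormalDomain_localization_etale (R := Γ(X, V)) Γ(Y, W) p.asIdeal
  letI : Algebra Γ(Y, W) (Y.presheaf.stalk y) := (Y.presheaf.germ W y hyW).hom.toAlgebra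
  haveI : IsLocalization.AtPrime (Y.presheaf.stalk y) p.asIdeal := hW.isLocalization_stalk ⟨y, hyW⟩
  let e := (IsLocalization.algEquiv p.asIdeal.primeCompl (Y.presheaf.stalk y)
    (Localization.AtPrime p.asIdeal)).toRingEquiv
  exact ⟨e.injective.isDomain e.toRingHom, IsIntegrallyClosed.of_equiv e.symm⟩

variable [IsIntegral X] (hX : Pi1.IsNormalScheme X) (f : Y ⟶ X) [IsFinite f] [Etale f]

include hX in
/-- Every point of a cover specializes from exactly one point over the generic point. -/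
theorem existsUnique_generic (y : Y) : ∃! g : Y, f g = genericPoint X ∧ g ⤳ y := by
  have hgen : ∀ y : Y, ∃ η, η ⤳ y ∧ (∀ y', y' ⤳ y → η ⤳ y') ∧ f η = genericPoint X := fun y => by
    obtain ⟨η, hη, hmax⟩ := Groth.PropsBasic.exists_greatest_generization ((isNormalScheme_of_etale hX f) y).1
    refine ⟨η, hη, hmax, ?_⟩
    obtain ⟨η', hη', hfη'⟩ := Flat.generalizingMap f (genericPoint_specializes (f η))
    rw [(hmax η' (hη'.trans hη)).antisymm hη' |>.eq]
    exact hfη'
  obtain ⟨η, hη, hmax, hfη⟩ := hgen y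
  refine ⟨η, ⟨hfη, hη⟩, fun g ⟨hfg, hgy⟩ => ?_⟩
  have hT1 : T1Space (f ⁻¹' {genericPoint X}) := by
    have := (f.isDiscrete_preimage_singleton (genericPoint X)).1
    infer_instance
  have hs : (⟨η, hfη⟩ : f ⁻¹' {genericPoint X}) ⤳ ⟨g, hfg⟩ := (subtype_specializes_iff _ _).2 (hmax g hgy)
  exact (congrArg Subtype.val hs.eq).symm

include hX in
theorem isClopen_closure_generic {g : Y} (hg : f g = genericPoint X) : IsClopen (closure ({g} : Set Y)) := by
  refine ⟨isClosed_closure, ?_⟩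
  have hfin : (f ⁻¹' {genericPoint X}).Finite := f.finite_preimage_singleton _
  have e : (closure ({g} : Set Y))ᶜ = ⋃ h ∈ (f ⁻¹' {genericPoint X}) \ {g}, closure {h} := by
    ext y
    simp only [Set.mem_compl_iff, ← specializes_iff_mem_closure, Set.mem_iUnion, Set.mem_sdiff,
      Set.mem_singleton_iff, exists_prop, Set.mem_preimage]
    obtain ⟨η, hη, huniq⟩ := existsUnique_generic hX f y
    refine ⟨fun hy => ⟨η, ⟨hη.1, fun e => hy (e ▸ hη.2)⟩, hη.2⟩, fun ⟨h, ⟨hf, hne⟩, hhy⟩ hgy =>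
      hne ((huniq h ⟨hf, hhy⟩).trans (huniq g ⟨hg, hgy⟩).symm)⟩
  have hc : IsClosed ((closure ({g} : Set Y))ᶜ) := by
    rw [e]
    exact (hfin.subset Set.sdiff_subset).isClosed_biUnion fun _ _ => isClosed_closure
  simpa using hc.isOpen_compl

include hX f in
theorem isIntegral_of_connectedSpace [ConnectedSpace Y] : IsIntegral Y := by
  obtain ⟨y⟩ : Nonempty Y := inferInstance
  obtain ⟨g, ⟨hg, -⟩, -⟩ := existsUnique_generic hX f y
  have huniv : closure ({g} : Set Y) = Set.univ :=
    (isClopen_closure_generic hX f hg).eq_univ ⟨g, subset_closure rfl⟩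
  haveI : IrreducibleSpace Y := irreducibleSpace_def _ |>.2 (by
    rw [Set.top_eq_univ, ← huniv]; exact isIrreducible_singleton.closure)
  haveI : ∀ z : Y, _root_.IsReduced (Y.presheaf.stalk z) := fun z =>
    haveI := ((isNormalScheme_of_etale hX f) z).1
    inferInstance
  haveI := isReduced_of_isReduced_stalk Y
  exact isIntegral_of_irreducibleSpace_of_isReduced Y

variable {T : Scheme.{u}}

include hX in
/-- Restriction to a subspace containing the generic point is fully faithful. -/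
theorem restrict_full_faithful (j : T ⟶ X) [IsPreimmersion j] (hj : genericPoint X ∈ Set.range j) :
    (FEt.restrict j).Full ∧ (FEt.restrict j).Faithful := by
  have hlift : ∀ (A : FEt.Cat X) (g : A.left), A.hom g = genericPoint X →
      g ∈ Set.range (pullback.fst A.hom j) := fun A g hg => by
    obtain ⟨t, ht⟩ := hj
    obtain ⟨z, hz, -⟩ := Scheme.Pullback.exists_preimage_pullback (f := A.hom) (g := j) g t (hg.trans ht.symm)
    exact ⟨z, hz⟩
  have hinj : ∀ (A : FEt.Cat X) (C : Set ↥A.left), IsClopen C →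
      Set.range (pullback.fst A.hom j).base ⊆ C → C = Set.univ := fun A C hC hsub => by
    have : IsFinite A.hom := A.prop.1
    have : Etale A.hom := A.prop.2
    refine Set.eq_univ_iff_forall.2 fun y => ?_
    obtain ⟨g, ⟨hg, hgy⟩, -⟩ := existsUnique_generic hX A.hom y
    exact hgy.mem_closed hC.1 (hsub (hlift A g hg))
  refine ⟨Pi1FEt.restrict_full_of_clopen j hinj fun A C₀ hC₀ => ?_, Pi1Etale.restrict_faithful_of_clopen j hinj⟩
  have : IsFinite A.hom := A.prop.1
  have : Etale A.hom := A.prop.2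
  let G : Set A.left := (pullback.fst A.hom j '' C₀) ∩ (A.hom ⁻¹' {genericPoint X})
  have hG : G.Finite := (A.hom.finite_preimage_singleton _).subset Set.inter_subset_right
  refine ⟨⋃ g ∈ G, closure {g}, hG.isClopen_biUnion fun g hg => isClopen_closure_generic hX A.hom hg.2, ?_⟩
  have hemb := (pullback.fst A.hom j).isEmbedding
  ext z
  simp only [Set.mem_preimage, Set.mem_iUnion, ← specializes_iff_mem_closure, exists_prop]
  constructor
  · rintro ⟨_, ⟨⟨z₀, hz₀, rfl⟩, -⟩, hz⟩
    exact (hemb.isInducing.specializes_iff.1 hz).mem_closed hC₀.1 hz₀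
  · intro hz
    obtain ⟨g, ⟨hg, hgz⟩, -⟩ := existsUnique_generic hX A.hom (pullback.fst A.hom j z)
    obtain ⟨z₀, rfl⟩ := hlift A g hg
    exact ⟨_, ⟨⟨z₀, (hemb.isInducing.specializes_iff.1 hgz).mem_open hC₀.2 hz, rfl⟩, hg⟩, hgz⟩

end Groth.Pi1Normal
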